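import Groth.Agent.CohGab24.LocCriterion
import Groth.Agent.SubAvoid14.Extend
import Groth.Agent.Coherent.SubFTApps

/-! # Maps of coherent modules inverted by restriction to an open -/

set_option autoImplicit false
set_option backward.isDefEq.respectTransparency.types false
set_option backward.isDefEq.respectTransparency false

universe u

open CategoryTheory CategoryTheory.Limits AlgebraicGeometry Opposite TopologicalSpace
open Groth.Agent.Coherent Groth.Agent.AssSch12

namespace Groth.Agent.CohGab24

variable {X : Scheme.{u}}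

local notation "St" => DerSch.stalkFunctor X

theorem exact_stalk {S : ShortComplex X.Modules} (hS : S.Exact) (z : X) :
    Function.Exact ((St z).map S.f) ((St z).map S.g) :=
  (ShortComplex.ShortExact.moduleCat_exact_iff_function_exact _).1 (hS.map (St z))

theorem bijective_stalk_iff {A B : X.Modules} (f : A ⟶ B) (z : X) :
    Function.Bijective ((St z).map f) ↔
      z ∉ CohB1.support (kernel f) ∧ z ∉ CohB1.support (cokernel f) := by
  have hk : Function.Exact ((St z).map (kernel.ι f)) ((St z).map f) :=
    exact_stalk (ShortComplex.exact_kernel f) z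
  have hc : Function.Exact ((St z).map f) ((St z).map (cokernel.π f)) :=
    exact_stalk (ShortComplex.exact_cokernel f) z
  have hki : Function.Injective ((St z).map (kernel.ι f)) := (ModuleCat.mono_iff_injective _).1 inferInstance
  have hcs : Function.Surjective ((St z).map (cokernel.π f)) := (ModuleCat.epi_iff_surjective _).1 inferInstance
  have e1 : z ∉ CohB1.support (kernel f) ↔ Subsingleton ((St z).obj (kernel f)) := not_not
  have e2 : z ∉ CohB1.support (cokernel f) ↔ Subsingleton ((St z).obj (cokernel f)) := not_not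
  rw [e1, e2]
  constructor
  · intro hb
    refine ⟨subsingleton_of_forall_eq 0 fun w => hki (hb.1 ?_), subsingleton_of_forall_eq 0 fun w => ?_⟩
    · rw [hk.apply_apply_eq_zero, map_zero, map_zero]
    · obtain ⟨v, rfl⟩ := hcs w
      obtain ⟨u, rfl⟩ := hb.2 v
      exact hc.apply_apply_eq_zero u
  · rintro ⟨h1, h2⟩
    refine ⟨(injective_iff_map_eq_zero ((St z).map f).hom).2 fun u hu => ?_, fun v => (hc v).1 (h2.elim _ _)⟩
    obtain ⟨w, rfl⟩ := (hk u).1 hu
    rw [h1.elim w 0, map_zero]

theorem support_iff {A B : X.Modules} (f : A ⟶ B) (U : X.Opens) :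
    (CohB1.support (kernel f) ⊆ (↑U : Set X)ᶜ ∧ CohB1.support (cokernel f) ⊆ (↑U : Set X)ᶜ) ↔
      IsIso ((Scheme.Modules.restrictFunctor U.ι).map f) := by
  constructor
  · rintro ⟨h1, h2⟩
    exact SubAvoid14.isIso_restrict_of_bijective f U fun z hz =>
      (bijective_stalk_iff f z).2 ⟨fun h => h1 h hz, fun h => h2 h hz⟩
  · intro h
    exact ⟨fun z hz hzU => ((bijective_stalk_iff f z).1 (SubAvoid14.bijective_of_isIso_restrict f U hzU)).1 hz,
      fun z hz hzU => ((bijective_stalk_iff f z).1 (SubAvoid14.bijective_of_isIso_restrict f U hzU)).2 hz⟩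

theorem exists_equalizer [IsLocallyNoetherian X] {A B : X.Modules} (f₁ f₂ : A ⟶ B) (U : X.Opens)
    (hA : Coh.IsCoh A) (hB : Coh.IsCoh B)
    (h : (Scheme.Modules.restrictFunctor U.ι).map f₁ = (Scheme.Modules.restrictFunctor U.ι).map f₂) :
    ∃ (A' : X.Modules) (s : A' ⟶ A), Coh.IsCoh A' ∧
      IsIso ((Scheme.Modules.restrictFunctor U.ι).map s) ∧ s ≫ f₁ = s ≫ f₂ := by
  haveI := hA.1
  haveI := hB.1
  let adj := Scheme.Modules.restrictAdjunction U.ι
  have h' : f₁ ≫ adj.unit.app B = f₂ ≫ adj.unit.app B := by
    refine (adj.unit.naturality f₁).trans (Eq.trans ?_ (adj.unit.naturality f₂).symm)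
    exact congrArg (fun q => adj.unit.app A ≫ (Coh.push U.ι).map q) h
  refine ⟨kernel (f₁ - f₂), kernel.ι _, isCoh_kernel _ hA hB.1, ?_, ?_⟩
  · refine SubAvoid14.isIso_restrict_of_bijective _ U fun z hz =>
      ⟨(ModuleCat.mono_iff_injective _).1 inferInstance, fun v => ?_⟩
    refine (exact_stalk (ShortComplex.exact_kernel (f₁ - f₂)) z v).1 ?_
    apply (bijective_stalk_restrictUnit B hz).1
    rw [map_zero]
    refine (stalk_comp_apply _ _ v).trans ?_
    rw [Preadditive.sub_comp, h', sub_self]
    exact stalk_zero_apply v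
  · rw [← sub_eq_zero, ← Preadditive.comp_sub, kernel.condition]

end Groth.Agent.CohGab24
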