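import Mathlib.CategoryTheory.Localization.CalculusOfFractions
import Mathlib.CategoryTheory.MorphismProperty.Composition

/-! # A criterion for a functor to be a localization -/

set_option autoImplicit false
set_option maxHeartbeats 1000000

universe v v' w w'

open CategoryTheory

namespace Groth.Agent.CohGab24

variable {C : Type w} [Category.{v} C] {D : Type w'} [Category.{v'} D] (F : C ⥤ D)

/-- If every map between images is the image of a roof whose left leg becomes invertible, parallel maps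
with the same image are equalized by such a map, and `F` is essentially surjective, then `F` is the
localization at the maps it inverts. -/
theorem isLocalization_of_roofs [F.EssSurj]
    (hfull : ∀ {A B : C} (φ : F.obj A ⟶ F.obj B), ∃ (A' : C) (s : A' ⟶ A) (f : A' ⟶ B),
      IsIso (F.map s) ∧ F.map f = F.map s ≫ φ)
    (hfaith : ∀ {A B : C} (f₁ f₂ : A ⟶ B), F.map f₁ = F.map f₂ → ∃ (A' : C) (s : A' ⟶ A),
      IsIso (F.map s) ∧ s ≫ f₁ = s ≫ f₂) :
    F.IsLocalization ((MorphismProperty.isomorphisms D).inverseImage F) := by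
  let W := (MorphismProperty.isomorphisms D).inverseImage F
  have hW : W.IsInvertedBy F := fun _ _ _ h => h
  have : W.HasRightCalculusOfFractions :=
    { exists_rightFraction := fun X Y φ => by
        have : IsIso (F.map φ.s) := φ.hs
        obtain ⟨A', s, f, hs, hf⟩ := hfull (F.map φ.f ≫ inv (F.map φ.s))
        have h : F.map (s ≫ φ.f) = F.map (f ≫ φ.s) := by
          rw [F.map_comp, F.map_comp, hf, Category.assoc, Category.assoc, IsIso.inv_hom_id,
            Category.comp_id]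
        obtain ⟨A'', t, ht, hc⟩ := hfaith _ _ h
        exact ⟨{ s := t ≫ s
                 hs := show IsIso (F.map (t ≫ s)) by rw [F.map_comp]; infer_instance
                 f := t ≫ f }, by simpa using hc⟩
      ext := fun X Y Y' f₁ f₂ s hs h => by
        have : IsIso (F.map s) := hs
        obtain ⟨A', t, ht, hc⟩ := hfaith f₁ f₂ (by
          rw [← cancel_mono (F.map s), ← F.map_comp, ← F.map_comp, h])
        exact ⟨A', t, ht, hc⟩ }
  let G : W.Localization ⥤ D := Localization.Construction.lift F hW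
  let e : W.Q ⋙ G ≅ F := eqToIso (Localization.Construction.fac F hW)
  have hsurj : W.Q.EssSurj := Localization.essSurj W.Q W
  have : G.EssSurj := ⟨fun d => ⟨W.Q.obj (F.objPreimage d), ⟨e.app _ ≪≫ F.objObjPreimageIso d⟩⟩⟩
  have key : ∀ {A B : C} (f : A ⟶ B), G.map (W.Q.map f) = e.hom.app A ≫ F.map f ≫ e.inv.app B := fun f => by
    exact (NatIso.naturality_2 e f).symm
  have : G.Full := ⟨fun {X Y} φ => by
    let A := W.Q.objPreimage X
    let B := W.Q.objPreimage Y
    let a := W.Q.objObjPreimageIso X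
    let b := W.Q.objObjPreimageIso Y
    obtain ⟨A', s, f, hs, hf⟩ := hfull (e.inv.app A ≫ G.map a.hom ≫ φ ≫ G.map b.inv ≫ e.hom.app B)
    have : IsIso (W.Q.map s) := Localization.inverts W.Q W s hs
    refine ⟨a.inv ≫ inv (W.Q.map s) ≫ W.Q.map f ≫ b.hom, ?_⟩
    have := hs
    simp only [Functor.map_comp, Functor.map_inv, key, hf]
    simp
    erw [Category.id_comp]
    simp [← G.map_comp]⟩
  have : G.Faithful := ⟨fun {X Y g₁ g₂} h => by
    let A := W.Q.objPreimage X
    let B := W.Q.objPreimage Y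
    let a := W.Q.objObjPreimageIso X
    let b := W.Q.objObjPreimageIso Y
    rw [← cancel_epi a.hom, ← cancel_mono b.inv]
    obtain ⟨φ₁, h₁⟩ := Localization.exists_rightFraction W.Q W ((a.hom ≫ g₁) ≫ b.inv)
    obtain ⟨φ₂, h₂⟩ := Localization.exists_rightFraction W.Q W ((a.hom ≫ g₂) ≫ b.inv)
    have : IsIso (F.map φ₁.s) := φ₁.hs
    have : IsIso (F.map φ₂.s) := φ₂.hs
    have : IsIso (W.Q.map φ₁.s) := Localization.inverts W.Q W φ₁.s φ₁.hs
    have : IsIso (W.Q.map φ₂.s) := Localization.inverts W.Q W φ₂.s φ₂.hs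
    have hG : G.map ((a.hom ≫ g₁) ≫ b.inv) = G.map ((a.hom ≫ g₂) ≫ b.inv) := by simp [h]
    -- common refinement of the two left legs
    obtain ⟨P, s, t, hs, hst⟩ := hfull (F.map φ₁.s ≫ inv (F.map φ₂.s))
    have hcomm : F.map (s ≫ φ₁.s) = F.map (t ≫ φ₂.s) := by simp [hst]
    obtain ⟨P', u, hu, huc⟩ := hfaith _ _ hcomm
    have hv : W ((u ≫ s) ≫ φ₁.s) := by
      show IsIso (F.map _)
      rw [F.map_comp, F.map_comp]; infer_instance
    have : IsIso (W.Q.map ((u ≫ s) ≫ φ₁.s)) := Localization.inverts W.Q W _ hv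
    have e₁ : W.Q.map ((u ≫ s) ≫ φ₁.s) ≫ ((a.hom ≫ g₁) ≫ b.inv) = W.Q.map ((u ≫ s) ≫ φ₁.f) := by
      rw [h₁, W.Q.map_comp, W.Q.map_comp _ φ₁.f]
      simp [MorphismProperty.RightFraction.map]
    have e₂ : W.Q.map ((u ≫ s) ≫ φ₁.s) ≫ ((a.hom ≫ g₂) ≫ b.inv) = W.Q.map ((u ≫ t) ≫ φ₂.f) := by
      rw [h₂, show (u ≫ s) ≫ φ₁.s = (u ≫ t) ≫ φ₂.s by simpa using huc, W.Q.map_comp,
        W.Q.map_comp _ φ₂.f]
      simp [MorphismProperty.RightFraction.map]
    rw [← cancel_epi (W.Q.map ((u ≫ s) ≫ φ₁.s)), e₁, e₂]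
    have h3 : F.map ((u ≫ s) ≫ φ₁.f) = F.map ((u ≫ t) ≫ φ₂.f) := by
      have h4 : G.map (W.Q.map ((u ≫ s) ≫ φ₁.f)) = G.map (W.Q.map ((u ≫ t) ≫ φ₂.f)) := by
        rw [← e₁, ← e₂, G.map_comp, G.map_comp (W.Q.map _) ((a.hom ≫ g₂) ≫ b.inv)]; exact congrArg (G.map _ ≫ ·) hG
      rw [key, key] at h4
      exact (cancel_mono (e.inv.app _)).1 ((cancel_epi (e.hom.app _)).1 h4)
    obtain ⟨P'', w, hw, hwc⟩ := hfaith _ _ h3
    have : IsIso (W.Q.map w) := Localization.inverts W.Q W w hw
    rw [← cancel_epi (W.Q.map w), ← W.Q.map_comp, ← W.Q.map_comp, hwc]⟩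
  have : G.IsEquivalence := { }
  exact Functor.IsLocalization.of_equivalence_target W.Q W F G.asEquivalence e

end Groth.Agent.CohGab24
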