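import Groth.Agent.S13986
import Groth.Agent.CurveRR24.Sky
import Groth.Agent.Surf15.Transfer

/-! # Serre classes of coherent modules and supports -/

set_option autoImplicit false
set_option backward.isDefEq.respectTransparency.types false

universe u

open CategoryTheory CategoryTheory.Limits AlgebraicGeometry TopologicalSpace
open Groth.Agent.Coherent Groth.Agent.AssSch12

namespace Groth.Agent.CohGab24

variable {X : Scheme.{u}}

/-- Serre classes on coherent modules. -/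
def IsSerre (Q : X.Modules → Prop) : Prop :=
  ∀ S : ShortComplex X.Modules, S.ShortExact → Coh.IsCoh S.X₁ → Coh.IsCoh S.X₂ → Coh.IsCoh S.X₃ →
    (Q S.X₂ ↔ Q S.X₁ ∧ Q S.X₃)

theorem isSerre_support (Z : Set X) : IsSerre fun M : X.Modules => CohB1.support M ⊆ Z := by
  intro S hS _ _ _
  haveI := hS.mono_f
  haveI := hS.epi_g
  exact ⟨fun h2 => ⟨(support_subset_of_mono S.f).trans h2, (support_subset_of_epi S.g).trans h2⟩,
    fun h13 => (support_X₂_subset hS).trans (Set.union_subset h13.1 h13.2)⟩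

theorem isSerre_notMem (η : X) : IsSerre fun M : X.Modules => η ∉ CohB1.support M := by
  intro S hS _ _ _
  haveI := hS.mono_f
  haveI := hS.epi_g
  exact ⟨fun h2 => ⟨fun h => h2 (support_subset_of_mono S.f h), fun h => h2 (support_subset_of_epi S.g h)⟩,
    fun h13 h => (support_X₂_subset hS h).elim h13.1 h13.2⟩

theorem isSerre_false : IsSerre fun _ : X.Modules => False := fun _ _ _ _ _ => ⟨False.elim, fun h => h.1⟩

variable [IsNoetherian X]

theorem mem_of_le_support {Q : X.Modules → Prop} (hQ : IsSerre Q) {F M : X.Modules} (hF : Coh.IsCoh F)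
    (hM : Coh.IsCoh M) (hQF : Q F) (h : CohB1.support M ⊆ CohB1.support F) : Q M :=
  (Groth.Agent.S13986.result X F M hF hM).2 h Q hQF hQ

/-- The structure module of the reduced closed subscheme on `Z`. -/
theorem exists_support_eq (Z : Closeds X) : ∃ F : X.Modules, Coh.IsCoh F ∧ CohB1.support F = (Z : Set X) := by
  let I := Scheme.IdealSheafData.vanishingIdeal Z
  have hsupp : (I.support : Set X) = (Z : Set X) := by
    rw [Scheme.IdealSheafData.coe_support_vanishingIdeal]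
  refine ⟨ClSub.quotMod I, CurveRR24.isCoh_quotMod I,
    ((CurveRR24.support_quotMod_subset I).trans hsupp.le).antisymm ?_⟩
  intro y hy hsub
  let j := I.subschemeι
  obtain ⟨η, rfl⟩ : y ∈ Set.range j.base := by rw [I.range_subschemeι, hsupp]; exact hy
  refine Surf15.mem_support_structureModule η (subsingleton_of_forall_eq 0 fun u => ?_)
  obtain ⟨W, hW, s, rfl⟩ := (Coh.structureModule I.subscheme).presheaf.exists_germ_eq u
  obtain ⟨W', rfl⟩ : ∃ W' : X.Opens, W = j ⁻¹ᵁ W' := by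
    obtain ⟨V, hV, hVW⟩ := j.isClosedEmbedding.isInducing.isOpen_iff.1 W.2
    exact ⟨⟨V, hV⟩, Opens.ext hVW.symm⟩
  obtain ⟨V, hyV, i₁, i₂, h1⟩ := TopCat.Presheaf.germ_eq (ClSub.quotMod I).presheaf (j.base η)
    (U := W') (V := W') hW hW (s : Γ(ClSub.quotMod I, W')) 0 (hsub.elim _ _)
  rw [map_zero] at h1
  have h2 := congrArg ((Coh.structureModule I.subscheme).presheaf.germ (j ⁻¹ᵁ V) η hyV) h1
  exact (TopCat.Presheaf.germ_res_apply (Coh.structureModule I.subscheme).presheaf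
    ((Opens.map j.base).map i₁) _ hyV s).symm.trans (h2.trans (map_zero _))

theorem mem_biprod {Q : X.Modules → Prop} (hQ : IsSerre Q) {F G : X.Modules} (hF : Coh.IsCoh F)
    (hG : Coh.IsCoh G) :
    Coh.IsCoh (F ⊞ G) ∧ (Q (F ⊞ G) ↔ Q F ∧ Q G) ∧
      CohB1.support F ⊆ CohB1.support (F ⊞ G) ∧ CohB1.support G ⊆ CohB1.support (F ⊞ G) := by
  have hS := (ShortComplex.Splitting.ofHasBinaryBiproduct F G).shortExact
  have h2 := isCoh_X₂ hS hF hG
  haveI : Mono (biprod.inl : F ⟶ F ⊞ G) := inferInstance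
  haveI : Epi (biprod.snd : F ⊞ G ⟶ G) := inferInstance
  exact ⟨h2, hQ _ hS hF h2 hG, support_subset_of_mono (biprod.inl : F ⟶ F ⊞ G),
    support_subset_of_epi (biprod.snd : F ⊞ G ⟶ G)⟩

theorem bij (X : Scheme.{u}) [IsNoetherian X] :
    (∀ Z : Closeds X, IsSerre (fun M : X.Modules => CohB1.support M ⊆ (Z : Set X)) ∧
      ∃ F : X.Modules, Coh.IsCoh F ∧ CohB1.support F ⊆ (Z : Set X) ∧
        ∀ Q : X.Modules → Prop, IsSerre Q → Q F →
          ∀ M : X.Modules, Coh.IsCoh M → CohB1.support M ⊆ (Z : Set X) → Q M) ∧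
    (∀ P : X.Modules → Prop, IsSerre P →
      (∃ F : X.Modules, Coh.IsCoh F ∧ P F ∧
        ∀ Q : X.Modules → Prop, IsSerre Q → Q F → ∀ M : X.Modules, Coh.IsCoh M → P M → Q M) →
      ∃! Z : Closeds X, ∀ M : X.Modules, Coh.IsCoh M → (P M ↔ CohB1.support M ⊆ (Z : Set X))) := by
  refine ⟨fun Z => ⟨isSerre_support _, ?_⟩, ?_⟩
  · obtain ⟨F, hF, hs⟩ := exists_support_eq Z
    exact ⟨F, hF, hs.le, fun Q hQ hQF M hM hMZ => mem_of_le_support hQ hF hM hQF (hMZ.trans hs.ge)⟩
  rintro P hP ⟨F, hF, hPF, hgen⟩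
  have key : ∀ M : X.Modules, Coh.IsCoh M → (P M ↔ CohB1.support M ⊆ CohB1.support F) := fun M hM =>
    ⟨fun h => hgen _ (isSerre_support _) le_rfl M hM h, fun h => mem_of_le_support hP hF hM hPF h⟩
  refine ⟨⟨CohB1.support F, isClosed_support F (locallyFinGen_of_isFT F hF.2)⟩, key, fun Z hZ => ?_⟩
  obtain ⟨G, hG, hs⟩ := exists_support_eq Z
  refine Closeds.ext (Set.Subset.antisymm ?_ ((hZ F hF).1 hPF))
  exact hs.ge.trans ((key G hG).1 ((hZ G hG).2 hs.le))

theorem irreducible_iff (X : Scheme.{u}) [IsNoetherian X] (Z : Closeds X) :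
    IsPreirreducible (Z : Set X) ↔
    ∀ J₁ J₂ : X.Modules → Prop, IsSerre J₁ → IsSerre J₂ →
      (∀ M : X.Modules, Coh.IsCoh M → J₁ M → CohB1.support M ⊆ (Z : Set X)) →
      (∀ M : X.Modules, Coh.IsCoh M → J₂ M → CohB1.support M ⊆ (Z : Set X)) →
      (∀ Q : X.Modules → Prop, IsSerre Q →
        (∀ M : X.Modules, Coh.IsCoh M → J₁ M → Q M) → (∀ M : X.Modules, Coh.IsCoh M → J₂ M → Q M) →
        ∀ M : X.Modules, Coh.IsCoh M → CohB1.support M ⊆ (Z : Set X) → Q M) →
      (∀ M : X.Modules, Coh.IsCoh M → CohB1.support M ⊆ (Z : Set X) → J₁ M) ∨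
        (∀ M : X.Modules, Coh.IsCoh M → CohB1.support M ⊆ (Z : Set X) → J₂ M) := by
  obtain ⟨FZ, hFZ, hs⟩ := exists_support_eq Z
  constructor
  · intro hirr J₁ J₂ h₁ h₂ hs₁ hs₂ hgen
    by_contra hne
    rw [not_or] at hne
    rcases Set.eq_empty_or_nonempty (Z : Set X) with h0 | hne'
    · refine hgen (fun _ => False) isSerre_false (fun M hM hJ => hne.1 fun N hN hNZ => ?_)
        (fun M hM hJ => hne.2 fun N hN hNZ => ?_) FZ hFZ hs.le
      · exact mem_of_le_support h₁ hM hN hJ ((hNZ.trans h0.le).trans (Set.empty_subset _))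
      · exact mem_of_le_support h₂ hM hN hJ ((hNZ.trans h0.le).trans (Set.empty_subset _))
    obtain ⟨η, hη⟩ := QuasiSober.sober (⟨hne', hirr⟩ : IsIrreducible (Z : Set X)) Z.2
    have hηZ : η ∈ CohB1.support FZ := hs.ge hη.mem
    have hall : ∀ (J : X.Modules → Prop), IsSerre J →
        (¬ ∀ M : X.Modules, Coh.IsCoh M → CohB1.support M ⊆ (Z : Set X) → J M) →
        ∀ M : X.Modules, Coh.IsCoh M → J M → η ∉ CohB1.support M := fun J hJ hno M hM hJM hηM =>
      hno fun N hN hNZ => mem_of_le_support hJ hM hN hJM (hNZ.trans (hη.def.ge.trans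
        ((isClosed_support M (locallyFinGen_of_isFT M hM.2)).closure_subset_iff.2
          (Set.singleton_subset_iff.2 hηM))))
    exact hgen _ (isSerre_notMem η) (hall J₁ h₁ hne.1) (hall J₂ h₂ hne.2) FZ hFZ hs.le hηZ
  intro H
  rw [isPreirreducible_iff_isClosed_union_isClosed]
  intro z₁ z₂ hz₁ hz₂ hZ
  let A : Closeds X := ⟨(Z : Set X) ∩ z₁, Z.2.inter hz₁⟩
  let B : Closeds X := ⟨(Z : Set X) ∩ z₂, Z.2.inter hz₂⟩
  obtain ⟨FA, hFA, hsA⟩ := exists_support_eq A
  obtain ⟨FB, hFB, hsB⟩ := exists_support_eq B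
  rcases H (fun M => CohB1.support M ⊆ (A : Set X)) (fun M => CohB1.support M ⊆ (B : Set X))
    (isSerre_support _) (isSerre_support _) (fun M _ h => h.trans Set.inter_subset_left)
    (fun M _ h => h.trans Set.inter_subset_left) (fun Q hQ q1 q2 M hM hMZ => by
      obtain ⟨hc, hiff, hl, hr⟩ := mem_biprod hQ hFA hFB
      refine mem_of_le_support hQ hc hM (hiff.2 ⟨q1 FA hFA hsA.le, q2 FB hFB hsB.le⟩) fun x hx => ?_
      rcases hZ (hMZ hx) with h | h
      · exact hl (hsA.ge ⟨hMZ hx, h⟩)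
      · exact hr (hsB.ge ⟨hMZ hx, h⟩)) with h | h
  · exact Or.inl fun x hx => ((h FZ hFZ hs.le) (hs.ge hx)).2
  · exact Or.inr fun x hx => ((h FZ hFZ hs.le) (hs.ge hx)).2

end Groth.Agent.CohGab24
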